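import Mathlib

set_option autoImplicit false

namespace Cfsg.Agent.Lib.Helper20.SS

/-- every prime factor of `C(n,k)` is at most `k` (what Sylvester–Schur refutes) -/
def Smooth (n k : ℕ) : Prop := ∀ p : ℕ, p.Prime → p ∣ n.choose k → p ≤ k

end Cfsg.Agent.Lib.Helper20.SS
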