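import Mathlib
import Cfsg.Agent.Lib.Helper20.SS.Defs
import Cfsg.Agent.Lib.Helper19.SSU1
import Cfsg.Agent.Lib.Helper11.SSU2
import Cfsg.Agent.Lib.Helper16.SSL
import Cfsg.Agent.Lib.Helper16.SSPI
import Cfsg.Agent.Lib.Helper16.SSS1
import Cfsg.Agent.Lib.Helper25.SSA
import Cfsg.Agent.Lib.Helper20.SSB
import Cfsg.Agent.Lib.Helper20.SSCHb
import Cfsg.Agent.Lib.Helper20.SSS2b

set_option autoImplicit false

namespace Cfsg.Agent.Lib.Helper20.SS

/-- Sylvester–Schur: for `n ≥ 2k`, `k ≥ 1`, the binomial coefficient `C(n,k)` has a prime factor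
greater than `k`. -/
theorem sylvester_schur {n k : ℕ} (hk : 0 < k) (hkn : 2 * k ≤ n) :
    ∃ p : ℕ, p.Prime ∧ k < p ∧ p ∣ n.choose k := by
  by_contra hcon
  have hS : Smooth n k := by
    intro p hp hd
    by_contra hlt
    exact hcon ⟨p, hp, not_le.mp hlt, hd⟩
  have hn0 : 0 < n := by omega
  have hL := four_mul_pow_le hk hkn
  have hU1 := choose_le_pow_pi hk hkn hS
  have h1 : (4 * n) ^ k ≤ n ^ Nat.primeCounting k * (2 * k) ^ (k + 1) :=
    hL.trans (Nat.mul_le_mul_right _ hU1)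
  rcases Nat.lt_or_ge k 18 with hk18 | hk18
  · exact hcon (h20_check_small hk hk18 hkn (arith_small hk hk18 h1))
  · -- `n^2 ≤ k^3`
    have h3 : (4 * n) ^ (3 * k) ≤ n ^ (k + 6) * (2 * k) ^ (3 * k + 3) := by
      have h2 := Nat.pow_le_pow_left h1 3
      calc (4 * n) ^ (3 * k) = ((4 * n) ^ k) ^ 3 := by rw [← pow_mul, Nat.mul_comm k 3]
        _ ≤ (n ^ Nat.primeCounting k * (2 * k) ^ (k + 1)) ^ 3 := h2
        _ = n ^ (3 * Nat.primeCounting k) * (2 * k) ^ (3 * k + 3) := by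
            rw [mul_pow, ← pow_mul, ← pow_mul]
            congr 2 <;> ring
        _ ≤ n ^ (k + 6) * (2 * k) ^ (3 * k + 3) :=
            Nat.mul_le_mul_right _ (Nat.pow_le_pow_right hn0 (three_mul_pi_le k))
    have hnk : n ^ 2 ≤ k ^ 3 := arith_A hk18 h3
    rcases Nat.lt_or_ge (2 ^ 24) n with hbig | hsmall
    · -- large `k`
      have hk16 : 2 ^ 16 ≤ k := by
        by_contra hlt
        have hlt' : k < 2 ^ 16 := not_le.mp hlt
        have : k ^ 3 < (2 ^ 16) ^ 3 := Nat.pow_lt_pow_left hlt' (by norm_num)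
        have h5 : (2 ^ 24) ^ 2 < n ^ 2 := Nat.pow_lt_pow_left hbig (by norm_num)
        have h6 : ((2:ℕ) ^ 24) ^ 2 = (2 ^ 16) ^ 3 := by norm_num
        omega
      have hU2 := choose_le_sqrt_bound hk hkn hS
      have h4 : (4 * n) ^ k ≤ n ^ Nat.primeCounting (Nat.sqrt n) * 4 ^ min k (n / 3)
          * (2 * k) ^ (k + 1) := hL.trans (Nat.mul_le_mul_right _ hU2)
      have h5 := Nat.pow_le_pow_left h4 3
      have h6 : (4 * n) ^ (3 * k) ≤ n ^ (Nat.sqrt n + 6) * 4 ^ min (3 * k) n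
          * (2 * k) ^ (3 * k + 3) := by
        calc (4 * n) ^ (3 * k) = ((4 * n) ^ k) ^ 3 := by rw [← pow_mul, Nat.mul_comm k 3]
          _ ≤ (n ^ Nat.primeCounting (Nat.sqrt n) * 4 ^ min k (n / 3) * (2 * k) ^ (k + 1)) ^ 3 := h5
          _ = n ^ (3 * Nat.primeCounting (Nat.sqrt n)) * 4 ^ (3 * min k (n / 3))
                * (2 * k) ^ (3 * k + 3) := by
              rw [mul_pow, mul_pow, ← pow_mul, ← pow_mul, ← pow_mul]
              congr 3 <;> ring
          _ ≤ n ^ (Nat.sqrt n + 6) * 4 ^ min (3 * k) n * (2 * k) ^ (3 * k + 3) := by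
              apply Nat.mul_le_mul_right
              apply Nat.mul_le_mul
              · exact Nat.pow_le_pow_right hn0 (three_mul_pi_le _)
              · apply Nat.pow_le_pow_right (by norm_num)
                have : 3 * (n / 3) ≤ n := Nat.mul_div_le n 3
                omega
      exact absurd h6 (not_le.mpr (arith_B hk16 hkn hnk))
    · -- medium range: a prime in `(n - k, n]`
      obtain ⟨p, hp, hpn, hlt⟩ := h20_prime_near (by omega) hsmall
      have h7 : (n - p) ^ 3 < k ^ 3 := lt_of_lt_of_le hlt hnk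
      have h8 : n - p < k := lt_of_pow_lt_pow_left₀ 3 (Nat.zero_le k) h7
      exact hcon ⟨p, hp, by omega, hp.dvd_choose (by omega) (by omega) hpn⟩

end Cfsg.Agent.Lib.Helper20.SS
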